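import Cfsg.Agent.H380.RC.EStmt
import Cfsg.Agent.H380.RC.Point

/-!
# S3510, family E (unitary groups), box E9: case I, all elements linear, of order prime to `p` (helper906)

`case_one` : `CaseOne` from the structure theorem `StrStmt` (E8), the subspace lemmas `DecStmt`, `GDecStmt`, `DStmt`,
`LStmt`, the irreducible case `IrrStmt`, the arithmetic `SmallStmt` and the point rule `UEnv.point`.
-/

set_option autoImplicit false

namespace Cfsg.Agent.H906.RC

open Matrix Cfsg Cfsg.Agent.LieClassical.HermBasic Cfsg.Agent.H380.RC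

/-- roots of unity of a finite field are powers of one of them -/
theorem exists_root_gen {F : Type*} [Field F] [Fintype F] {d : ℕ} (hd : d ∣ Nat.card Fˣ) :
    ∃ ζ : F, ζ ^ d = 1 ∧ ∀ z : F, z ^ d = 1 → ∃ k : ℕ, z = ζ ^ k := by
  classical
  obtain ⟨γ, hγ⟩ := IsCyclic.exists_generator (α := Fˣ)
  obtain ⟨m, hm⟩ := hd
  have hpos : 0 < Nat.card Fˣ := Nat.card_pos
  have hd0 : 0 < d := by
    rcases Nat.eq_zero_or_pos d with h0 | h0
    · rw [h0, zero_mul] at hm; omega
    · exact h0
  have hord : orderOf γ = Nat.card Fˣ := orderOf_eq_card_of_forall_mem_zpowers hγ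
  refine ⟨(γ : F) ^ m, ?_, fun z hz => ?_⟩
  · rw [← pow_mul, mul_comm m d, ← hm, ← Units.val_pow_eq_pow_val, pow_card_eq_one', Units.val_one]
  · have hz0 : z ≠ 0 := by
      rintro rfl
      rw [zero_pow hd0.ne'] at hz
      exact zero_ne_one hz
    obtain ⟨k, hk⟩ := (Submonoid.mem_powers_iff _ _).1 ((mem_powers_iff_mem_zpowers).2 (hγ (Units.mk0 z hz0)))
    have h1 : γ ^ (k * d) = 1 := by
      rw [pow_mul, hk]
      apply Units.ext
      rw [Units.val_pow_eq_pow_val, Units.val_mk0, hz, Units.val_one]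
    have h2 : d * m ∣ k * d := by
      rw [← hm, ← hord]
      exact orderOf_dvd_of_pow_eq_one h1
    have h3 : m ∣ k := by
      rw [mul_comm k d] at h2
      exact Nat.dvd_of_mul_dvd_mul_left hd0 h2
    obtain ⟨t, rfl⟩ := h3
    refine ⟨t, ?_⟩
    have h4 := congrArg Units.val hk
    rw [Units.val_pow_eq_pow_val, Units.val_mk0, pow_mul] at h4
    exact h4.symm

section frame

variable {F : Type} [Field F] [Fintype F] {q : ℕ}

/-- expansion with respect to an orthonormal frame -/
theorem frame_expand (hF : Fintype.card F = q ^ 2) {w : Fin 3 → (Fin 3 → F)}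
    (hw : ∀ i j, hermForm 3 F q (w i) (w j) = if i = j then 1 else 0) (v : Fin 3 → F) :
    v = ∑ j, hermForm 3 F q v (w j) • w j := by
  have hli : LinearIndependent F w := by
    rw [Fintype.linearIndependent_iff]
    intro g hg i
    have h1 := congrArg (fun v => hermForm 3 F q v (w i)) hg
    rw [herm_sum_left, herm_zero_left] at h1
    simp only [herm_smul_left, hw, mul_ite, mul_one, mul_zero, Finset.sum_ite_eq', Finset.mem_univ, if_true] at h1
    exact h1
  have hsp : Submodule.span F (Set.range w) = ⊤ :=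
    hli.span_eq_top_of_card_eq_finrank (by rw [Fintype.card_fin, Module.finrank_fin_fun])
  rw [← sub_eq_zero]
  apply herm_nondeg hF
  intro u
  have hu : u ∈ Submodule.span F (Set.range w) := hsp ▸ Submodule.mem_top
  induction hu using Submodule.span_induction with
  | mem u hu =>
    obtain ⟨i, rfl⟩ := hu
    rw [herm_sub_left, herm_sum_left]
    simp only [herm_smul_left, hw, mul_ite, mul_one, mul_zero, Finset.sum_ite_eq', Finset.mem_univ, if_true, sub_self]
  | zero => exact herm_zero_right hF _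
  | add a b _ _ ha hb => rw [herm_add_right hF, ha, hb, add_zero]
  | smul c a _ ha => rw [herm_smul_right, ha, mul_zero]

end frame

section gdec

variable {G Ω : Type} [Group G] [Finite G] [Finite Ω] [Nonempty Ω] [MulAction G Ω] {N : Subgroup G} {F : Type}
  [Field F] [Fintype F] {q : ℕ} {ι : Type} [Finite ι]

/-- the plane spanned by two vectors of an orthonormal frame -/
theorem frame_plane (hgdec : GDecStmt) (U : UEnv G Ω N F 3 q) {x : ι → G} {f : ι → (Fin 3 → F) → (Fin 3 → F)}
    {r : ι → ℕ} (hfam : UFam U x f r) (hcov : H106.RC.Cov Ω x) (hlin : ∀ i, Lin (f i)) (hcop : ∀ i, (r i).Coprime q)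
    {w : Fin 3 → (Fin 3 → F)} (hw : ∀ i j, hermForm 3 F q (w i) (w j) = if i = j then 1 else 0)
    {c : ι → Fin 3 → F} (hc : ∀ i j, f i (w j) = c i j • w j) (hq : 4 ≤ q)
    {a b : Fin 3} (hab : a ≠ b) {ζ : F} (hζ : ζ * ζ ^ q = 1) (hk : ∀ i, ∃ k : ℕ, c i b = c i a * ζ ^ k)
    (halt : (∀ (K : Type) [Field K] [Fintype K], Fintype.card K = q →
        H106.RC.RC (Matrix.ProjectiveSpecialLinearGroup (Fin 2) K)) ∨ (∃ l : ℕ, l.Prime ∧ ζ ^ l = 1)) : False := by
  have haa : hermForm 3 F q (w a) (w a) = 1 := by rw [hw, if_pos rfl]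
  have hbb : hermForm 3 F q (w b) (w b) = 1 := by rw [hw, if_pos rfl]
  have hab' : hermForm 3 F q (w a) (w b) = 0 := by rw [hw, if_neg hab]
  have hba' : hermForm 3 F q (w b) (w a) = 0 := by rw [hw, if_neg hab.symm]
  set A : Submodule F (Fin 3 → F) := Submodule.span F {w a, w b} with hA
  have hmem : ∀ v, v ∈ A ↔ ∃ s t : F, s • w a + t • w b = v := fun v => Submodule.mem_span_pair
  have hfr : Module.finrank F A = 2 := by
    have h1 : LinearIndependent F ![w a, w b] := by
      rw [LinearIndependent.pair_iff]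
      intro s t hst
      have h1 := congrArg (fun v => hermForm 3 F q v (w a)) hst
      have h2 := congrArg (fun v => hermForm 3 F q v (w b)) hst
      simp only [herm_add_left, herm_smul_left, haa, hba', herm_zero_left, mul_one, mul_zero, add_zero] at h1
      simp only [herm_add_left, herm_smul_left, hbb, hab', herm_zero_left, mul_one, mul_zero, zero_add] at h2
      exact ⟨h1, h2⟩
    have h2 := finrank_span_eq_card h1
    rw [Matrix.range_cons, Matrix.range_cons, Matrix.range_empty, Set.union_empty, Fintype.card_fin,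
      Set.singleton_union] at h2
    exact h2
  have hgw : ∀ s t : F, (s • w a + t • w b) + ((ζ - 1) * hermForm 3 F q (s • w a + t • w b) (w b)) • w b =
      s • w a + (ζ * t) • w b := by
    intro s t
    rw [herm_add_left, herm_smul_left, herm_smul_left, hab', hbb, mul_zero, zero_add, mul_one, add_assoc, ← add_smul]
    congr 2
    ring
  set g : (Fin 3 → F) → (Fin 3 → F) := fun v => v + ((ζ - 1) * hermForm 3 F q v (w b)) • w b with hg
  have hgw' : ∀ s t : F, g (s • w a + t • w b) = s • w a + (ζ * t) • w b := hgw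
  have hit : ∀ (k : ℕ) (s t : F), g^[k] (s • w a + t • w b) = s • w a + (ζ ^ k * t) • w b := by
    intro k
    induction k with
    | zero => intro s t; rw [Function.iterate_zero, pow_zero, one_mul]; rfl
    | succ k ih => intro s t; rw [Function.iterate_succ_apply', ih, hgw', pow_succ', mul_assoc]
  refine hgdec U x f ⟨hfam.pf.ne, hfam.lft, hfam.comm⟩ hcov A g ?_ ?_ hfr.ge (fun h => ?_) (fun h => ?_) (fun i => ?_)
    (fun i _ => ⟨r i, hfam.pf.prime i, hcop i, hfam.pf.pow i⟩) ?_ ?_ ?_ ?_ (fun i => ?_) ?_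
  · intro v hv hv'
    obtain ⟨s, t, rfl⟩ := (hmem v).1 hv
    have h1 := hv' (w a) (Submodule.subset_span (Set.mem_insert _ _))
    have h2 := hv' (w b) (Submodule.subset_span (Set.mem_insert_of_mem _ rfl))
    rw [herm_add_left, herm_smul_left, herm_smul_left, haa, hba', mul_one, mul_zero, add_zero] at h1
    rw [herm_add_left, herm_smul_left, herm_smul_left, hbb, hab', mul_one, mul_zero, zero_add] at h2
    rw [h1, h2, zero_smul, zero_smul, add_zero]
  · intro h
    rw [h, finrank_top, Module.finrank_fin_fun] at hfr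
    omega
  · omega
  · omega
  · refine ⟨hlin i, fun v hv => ?_⟩
    obtain ⟨s, t, rfl⟩ := (hmem v).1 hv
    rw [(hfam.lft i).ind.map_add, hlin, hlin, hc, hc, smul_smul, smul_smul]
    exact (hmem _).2 ⟨_, _, rfl⟩
  · intro v v'
    simp only [hg]
    rw [herm_add_left, mul_add, add_smul]
    abel
  · intro d v
    simp only [hg]
    rw [herm_smul_left, smul_add, smul_smul]
    congr 2
    ring
  · intro v hv
    obtain ⟨s, t, rfl⟩ := (hmem v).1 hv
    rw [hgw']
    exact (hmem _).2 ⟨_, _, rfl⟩
  · intro v hv v' hv'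
    obtain ⟨s, t, rfl⟩ := (hmem v).1 hv
    obtain ⟨s', t', rfl⟩ := (hmem v').1 hv'
    rw [hgw', hgw']
    simp only [herm_add_left, herm_smul_left, herm_add_right U.hF, herm_smul_right, haa, hbb, hab', hba', mul_zero,
      mul_one, add_zero, zero_add, mul_pow]
    linear_combination (t' ^ q * t) * hζ
  · obtain ⟨k, hk⟩ := hk i
    refine ⟨k, c i a, fun v hv => ?_⟩
    obtain ⟨s, t, rfl⟩ := (hmem v).1 hv
    rw [hit, (hfam.lft i).ind.map_add, hlin, hlin, hc, hc, hk, smul_add, smul_smul, smul_smul, smul_smul, smul_smul]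
    congr 2
    · ring
    · ring
  · rcases halt with h | ⟨l, hl, hl1⟩
    · exact Or.inr (Or.inl ⟨hfr, h⟩)
    · refine Or.inr (Or.inr ⟨l, 1, hl, 1, fun v hv => ?_⟩)
      obtain ⟨s, t, rfl⟩ := (hmem v).1 hv
      rw [hit, pow_one, hl1, one_mul, one_smul]

/-- the case of an orthonormal frame of common eigenvectors -/
theorem case_frame (hgdec : GDecStmt) (U : UEnv G Ω N F 3 q) {x : ι → G} {f : ι → (Fin 3 → F) → (Fin 3 → F)}
    {r : ι → ℕ} (hfam : UFam U x f r) (hcov : H106.RC.Cov Ω x) (hlin : ∀ i, Lin (f i)) (hcop : ∀ i, (r i).Coprime q)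
    (hiso : ∀ i v w, hermForm 3 F q (f i v) (f i w) = hermForm 3 F q v w)
    (se : ∀ (K : Type) [Field K] [Fintype K], Fintype.card K = q → 4 ≤ q → q ≠ 4 → q ≠ 5 → q ≠ 9 →
      H106.RC.RC (Matrix.ProjectiveSpecialLinearGroup (Fin 2) K))
    {w : Fin 3 → (Fin 3 → F)} (hw : ∀ i j, hermForm 3 F q (w i) (w j) = if i = j then 1 else 0)
    (hfw : ∀ i j, ∃ c : F, f i (w j) = c • w j) : False := by
  have pf := hfam.pf
  have hF := U.hF
  have hq2 := two_le hF
  have hq2' : q ≠ 2 := fun h => U.h32 ⟨rfl, h⟩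
  choose c hc using hfw
  have hcn : ∀ i j, c i j * c i j ^ q = 1 := by
    intro i j
    have h1 := hiso i (w j) (w j)
    rw [hc, herm_smul_left, herm_smul_right, hw, if_pos rfl, mul_one] at h1
    exact h1
  have hc0 : ∀ i j, c i j ≠ 0 := by
    intro i j h
    have h1 := hcn i j
    rw [h, zero_mul] at h1
    exact zero_ne_one h1
  have hcn' : ∀ i j, c i j ^ (q + 1) = 1 := fun i j => by rw [pow_succ', hcn]
  have hit : ∀ i j (k : ℕ), (f i)^[k] (w j) = c i j ^ k • w j := by
    intro i j k
    induction k with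
    | zero => rw [Function.iterate_zero, pow_zero, one_smul]; rfl
    | succ k ih => rw [Function.iterate_succ_apply', ih, hlin, hc, smul_smul, pow_succ]
  have hw0 : ∀ j, w j ≠ 0 := by
    intro j h
    have h1 := hw j j
    rw [h, herm_zero_left, if_pos rfl] at h1
    exact zero_ne_one h1
  -- the primes divide `q + 1`
  have hdvd : ∀ i, r i ∣ q + 1 := by
    intro i
    have h1 : x i ^ (q + 1) = 1 := by
      have h2 := (hfam.lft i).pow (q + 1)
      refine h2.eq_one_iff.2 ⟨1, fun v => ?_⟩
      rw [one_smul]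
      have h3 : ∀ s : Finset (Fin 3), (f i)^[q + 1] (∑ j ∈ s, hermForm 3 F q v (w j) • w j) =
          ∑ j ∈ s, hermForm 3 F q v (w j) • w j := by
        intro s
        induction s using Finset.induction_on with
        | empty => rw [Finset.sum_empty]; exact h2.ind.map_zero
        | insert j s hj ih =>
          rw [Finset.sum_insert hj, h2.ind.map_add, ih]
          congr 1
          have h4 : ∀ (k : ℕ) (d : F) (u : Fin 3 → F), (f i)^[k] (d • u) = d • (f i)^[k] u := by
            intro k
            induction k with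
            | zero => intro d u; rfl
            | succ k ih => intro d u; rw [Function.iterate_succ_apply', Function.iterate_succ_apply', ih, hlin]
          rw [h4, hit, hcn', one_smul]
      have h4 := h3 Finset.univ
      rw [← frame_expand hF hw v] at h4
      exact h4
    have := Fact.mk (pf.prime i)
    have h5 : orderOf (x i) = r i := orderOf_eq_prime (pf.pow i) (pf.ne i)
    exact h5 ▸ orderOf_dvd_of_pow_eq_one h1
  -- not all primes are equal
  have htwo : ∀ l : ℕ, ¬ ∀ i, r i = l := by
    intro l hl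
    obtain ⟨ω⟩ := (inferInstance : Nonempty Ω)
    obtain ⟨i, -⟩ := hcov ω
    obtain ⟨j, hj⟩ := H106.RC.Cov.two U.env hcov pf.ne i
    exact hj (pf.inj ((hl j).trans (hl i).symm))
  have hcu := card_units_eq hF
  have hratio : ∀ i (a b : Fin 3) (d : ℕ), c i a ^ d = c i b ^ d → (c i b / c i a) ^ d = 1 := by
    intro i a b d h
    rw [div_pow, h, div_self (pow_ne_zero _ (hc0 i b))]
  by_cases hq3 : q = 3
  · refine htwo 2 fun i => ?_
    have h1 : r i ∣ 2 ^ 2 := by
      have := hdvd i
      rw [hq3] at this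
      exact this
    exact (Nat.prime_dvd_prime_iff_eq (pf.prime i) Nat.prime_two).1 ((pf.prime i).dvd_of_dvd_pow h1)
  have hq4 : 4 ≤ q := by omega
  by_cases hqe : q ≠ 4 ∧ q ≠ 5 ∧ q ≠ 9
  · obtain ⟨ζ, hζ, hζ'⟩ := exists_root_gen (F := F) (d := q + 1) (hcu ▸ dvd_mul_right _ _)
    refine frame_plane hgdec U hfam hcov hlin hcop hw hc hq4 (a := 0) (b := 1) (by decide)
      (ζ := ζ) (by rw [← pow_succ', hζ]) (fun i => ?_) (Or.inl fun K _ _ hK => se K hK hq4 hqe.1 hqe.2.1 hqe.2.2)
    obtain ⟨k, hk⟩ := hζ' (c i 1 / c i 0) (hratio i 0 1 (q + 1) ((hcn' i 0).trans (hcn' i 1).symm))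
    exact ⟨k, by rw [← hk, mul_div_cancel₀ _ (hc0 i 0)]⟩
  -- the small fields
  obtain ⟨l, hl, hl2, hlq, hlr⟩ : ∃ l : ℕ, l.Prime ∧ l ≠ 2 ∧ l ∣ q + 1 ∧ ∀ i, r i = 2 ∨ r i = l := by
    have h1 : q = 4 ∨ q = 5 ∨ q = 9 := by tauto
    rcases h1 with rfl | rfl | rfl
    · refine ⟨5, by norm_num, by decide, by decide, fun i => Or.inr ?_⟩
      exact (Nat.prime_dvd_prime_iff_eq (pf.prime i) (by norm_num)).1 (hdvd i)
    · refine ⟨3, by norm_num, by decide, by decide, fun i => ?_⟩
      have h2 : r i ∣ 2 * 3 := hdvd i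
      rcases (Nat.Prime.dvd_mul (pf.prime i)).1 h2 with h3 | h3
      · exact Or.inl ((Nat.prime_dvd_prime_iff_eq (pf.prime i) (by norm_num)).1 h3)
      · exact Or.inr ((Nat.prime_dvd_prime_iff_eq (pf.prime i) (by norm_num)).1 h3)
    · refine ⟨5, by norm_num, by decide, by decide, fun i => ?_⟩
      have h2 : r i ∣ 2 * 5 := hdvd i
      rcases (Nat.Prime.dvd_mul (pf.prime i)).1 h2 with h3 | h3
      · exact Or.inl ((Nat.prime_dvd_prime_iff_eq (pf.prime i) (by norm_num)).1 h3)
      · exact Or.inr ((Nat.prime_dvd_prime_iff_eq (pf.prime i) (by norm_num)).1 h3)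
  obtain ⟨i₂, hi₂⟩ : ∃ i, r i = 2 := by
    by_contra h
    push Not at h
    exact htwo l fun i => (hlr i).resolve_left (h i)
  have hlr' : ∀ j, j ≠ i₂ → r j = l := fun j hj => (hlr j).resolve_left fun h => hj (pf.inj (h.trans hi₂.symm))
  -- powers
  have hpw : ∀ i (a b : Fin 3), c i a ^ r i = c i b ^ r i := by
    intro i a b
    obtain ⟨d, hd⟩ := ((hfam.lft i).pow (r i)).eq_one_iff.1 (pf.pow i)
    have h1 : ∀ a, c i a ^ r i = d := by
      intro a
      have h2 := hd (w a)
      rw [hit] at h2
      have h3 : (c i a ^ r i - d) • w a = 0 := by rw [sub_smul, h2, sub_self]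
      exact sub_eq_zero.1 ((smul_eq_zero.1 h3).resolve_right (hw0 a))
    rw [h1, h1]
  obtain ⟨a, b, hab, hcab⟩ : ∃ a b : Fin 3, a ≠ b ∧ c i₂ a = c i₂ b := by
    have h1 : ∀ a b, c i₂ a = c i₂ b ∨ c i₂ a = - c i₂ b := by
      intro a b
      have h2 := hpw i₂ a b
      rw [hi₂] at h2
      exact sq_eq_sq_iff_eq_or_eq_neg.1 h2
    rcases h1 0 1 with h2 | h2
    · exact ⟨0, 1, by decide, h2⟩
    · rcases h1 0 2 with h3 | h3
      · exact ⟨0, 2, by decide, h3⟩
      · exact ⟨1, 2, by decide, neg_injective (h2.symm.trans h3)⟩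
  obtain ⟨ζ, hζ, hζ'⟩ := exists_root_gen (F := F) (d := l) (hcu ▸ hlq.trans (dvd_mul_right _ _))
  refine frame_plane hgdec U hfam hcov hlin hcop hw hc hq4 hab (ζ := ζ) ?_ (fun i => ?_) (Or.inr ⟨l, hl, hζ⟩)
  · obtain ⟨m, hm⟩ := hlq
    rw [← pow_succ', hm, pow_mul, hζ, one_pow]
  · by_cases hi : i = i₂
    · subst hi
      exact ⟨0, by rw [pow_zero, mul_one, hcab]⟩
    · obtain ⟨k, hk⟩ := hζ' (c i b / c i a) (hratio i a b l (hlr' i hi ▸ hpw i a b))
      exact ⟨k, by rw [← hk, mul_div_cancel₀ _ (hc0 i a)]⟩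

end gdec

section halves

variable {F : Type} [Field F] [Fintype F] {n q : ℕ}

/-- two totally singular halves have the same dimension (one inequality) -/
theorem finrank_le_of_ts (hF : Fintype.card F = q ^ 2) {W W' : Submodule F (Fin n → F)} (hW : TS q W)
    (hc : W ⊔ W' = ⊤) : Module.finrank F W ≤ Module.finrank F W' := by
  set b := Module.finBasis F W' with hb
  let T : W →ₗ[F] (Fin (Module.finrank F W') → F) :=
    { toFun := fun w j => hermForm n F q w (b j : Fin n → F)
      map_add' := fun u v => by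
        funext j
        change hermForm n F q ((u : Fin n → F) + v) _ = _
        rw [herm_add_left]
        rfl
      map_smul' := fun c u => by
        funext j
        change hermForm n F q (c • (u : Fin n → F)) _ = _
        rw [herm_smul_left]
        rfl }
  have hT : Function.Injective T := by
    rw [injective_iff_map_eq_zero]
    intro w hw
    apply Subtype.ext
    change (w : Fin n → F) = 0
    apply herm_nondeg hF
    intro v
    have hv : v ∈ W ⊔ W' := hc ▸ Submodule.mem_top
    obtain ⟨a, ha, a', ha', rfl⟩ := Submodule.mem_sup.1 hv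
    rw [herm_add_right hF, hW w w.2 a ha, zero_add]
    have h1 : a' = ∑ j, (b.repr ⟨a', ha'⟩ j) • (b j : Fin n → F) := by
      have h2 := congrArg Subtype.val (b.sum_repr ⟨a', ha'⟩)
      rw [Submodule.coe_sum] at h2
      exact h2.symm
    rw [h1, herm_sum_right hF]
    refine Finset.sum_eq_zero fun j _ => ?_
    rw [herm_smul_right]
    have h3 := congrFun hw j
    change hermForm n F q w (b j : Fin n → F) = 0 at h3
    rw [h3, mul_zero]
  have h1 := LinearMap.finrank_le_finrank_of_injective hT
  rwa [Module.finrank_fin_fun] at h1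

theorem finrank_half (hF : Fintype.card F = q ^ 2) {W W' : Submodule F (Fin n → F)} (hW : TS q W) (hW' : TS q W')
    (hc : IsCompl W W') : n = 2 * Module.finrank F W := by
  have h1 := finrank_le_of_ts hF hW hc.sup_eq_top
  have h2 := finrank_le_of_ts hF hW' (sup_comm W W' ▸ hc.sup_eq_top)
  have h3 := Submodule.finrank_add_eq_of_isCompl hc
  rw [Module.finrank_fin_fun] at h3
  omega

/-- a map of prime power order without nonzero fixed vectors -/
theorem prime_dvd_of_no_fixed {V : Type*} [AddCommGroup V] [Finite V] {g : V → V} (hg0 : g 0 = 0) {r k : ℕ}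
    (hr : r.Prime) (hg : ∀ v, g^[r ^ k] v = v) (hfix : ∀ v, g v = v → v = 0) : r ∣ Nat.card V - 1 := by
  classical
  have := Fact.mk hr
  have := Fintype.ofFinite V
  let g' : Function.End V := g
  have h0 : ∀ m : ℕ, g' ^ m = (g^[m] : V → V) := by
    intro m
    induction m with
    | zero => rfl
    | succ m ih => rw [pow_succ', ih]; funext v; exact (Function.iterate_succ_apply' g m v).symm
  have h1 : g' ^ r ^ k = 1 := by
    rw [h0]
    funext v
    exact hg v
  have h2 := Equiv.Perm.card_fixedPoints_modEq h1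
  have h3 : Fintype.card (Function.fixedPoints g) = 1 := by
    rw [Fintype.card_eq_one_iff]
    exact ⟨⟨0, hg0⟩, fun v => Subtype.ext (hfix v.1 v.2)⟩
  have h4 : Fintype.card (Function.fixedPoints g') = 1 := h3
  rw [Nat.card_eq_fintype_card]
  refine (Nat.modEq_iff_dvd' Fintype.card_pos).1 (Nat.ModEq.symm ?_)
  have h5 := h4 ▸ h2
  exact h5

end halves

section four

variable {G Ω : Type} [Group G] [Finite G] [Finite Ω] [Nonempty Ω] [MulAction G Ω] {N : Subgroup G} {F : Type}
  [Field F] [Fintype F] {n q : ℕ} {ι : Type} [Finite ι]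

theorem case_halves (hd : DStmt) (U : UEnv G Ω N F n q) {x : ι → G} {f : ι → (Fin n → F) → (Fin n → F)}
    {r : ι → ℕ} (hfam : UFam U x f r) (hcov : H106.RC.Cov Ω x) (h42 : ¬ (n = 4 ∧ q = 2)) (hlin : ∀ i, Lin (f i))
    (hcop : ∀ i, (r i).Coprime q)
    (sc : ∀ d, n = 2 * d → ¬ (d = 2 ∧ q ≤ 3) → H106.RC.RC (Matrix.ProjectiveSpecialLinearGroup (Fin d) F))
    {W W' : Submodule F (Fin n → F)} (hW : TS q W) (hW' : TS q W') (hc : IsCompl W W')
    (hst : ∀ i, Stab (f i) W ∧ Stab (f i) W') : False := by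
  have pf := hfam.pf
  have hF := U.hF
  have hn2 := finrank_half hF hW hW' hc
  by_cases hsm : ¬ (Module.finrank F W = 2 ∧ q ≤ 3)
  · exact hd U x f r hfam hcov ⟨W, W', hW, hW', hc, hst, Or.inl (sc _ hn2 hsm)⟩
  push Not at hsm
  obtain ⟨hfr, hq3⟩ := hsm
  have hn4 : n = 4 := by omega
  have hq : q = 3 := by
    have := two_le hF
    by_contra h
    exact h42 ⟨hn4, by omega⟩
  have hadd := fun i => (hfam.lft i).ind.map_add
  have h0 := fun i => (hfam.lft i).ind.map_zero
  by_cases hev : ∃ i, ¬ ScalOn (f i) W ∧ ∃ e ∈ W, e ≠ 0 ∧ ∃ c : F, f i e = c • e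
  · -- a common eigenvector
    obtain ⟨i, hi, e, heW, he0, c, hce⟩ := hev
    refine U.point pf.prime hcop pf.pow pf.ne pf.comm hfam.lft hcov he0 (hW e heW e heW) fun j => ?_
    let E : Submodule F (Fin n → F) :=
      { carrier := {v | v ∈ W ∧ f i v = c • v}
        add_mem' := fun {u v} hu hv => ⟨W.add_mem hu.1 hv.1, by rw [hadd, hu.2, hv.2, smul_add]⟩
        zero_mem' := ⟨W.zero_mem, by rw [h0, smul_zero]⟩
        smul_mem' := fun a u hu => ⟨W.smul_mem a hu.1, by rw [hlin, hu.2, smul_comm]⟩ }
    have hEW : E ≤ W := fun v hv => hv.1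
    have hE2 : Module.finrank F E ≤ 2 := hfr ▸ Submodule.finrank_mono hEW
    have hE2' : Module.finrank F E ≠ 2 := by
      intro h
      have h1 : E = W := Submodule.eq_of_le_of_finrank_eq hEW (h.trans hfr.symm)
      exact hi ⟨c, fun v hv => ((h1 ▸ hv : v ∈ E)).2⟩
    have heE : e ∈ E := ⟨heW, hce⟩
    have hE0 : 0 < Module.finrank F E := by
      have : Nontrivial E := ⟨⟨⟨e, heE⟩, 0, fun h => he0 (congrArg Subtype.val h)⟩⟩
      exact Module.finrank_pos
    have hfe : f j e ∈ E := ⟨(hst j).1 e heW, by rw [hfam.comm, hce, hlin]⟩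
    obtain ⟨d, hd'⟩ := exists_smul_eq_of_finrank_eq_one (by omega : Module.finrank F E = 1)
      (x := (⟨e, heE⟩ : E)) (fun h => he0 (congrArg Subtype.val h)) ⟨f j e, hfe⟩
    exact ⟨d, (congrArg Subtype.val hd').symm⟩
  · -- no eigenvectors: the prime is 5
    push Not at hev
    subst hq
    have h5 : ∀ i, ¬ ScalOn (f i) W → r i = 5 := by
      intro i hi
      obtain ⟨c, hcc, hc'⟩ := U.lft_one.unique (show U.Lft 1 (f i)^[r i] from pf.pow i ▸ (hfam.lft i).pow (r i))
      have hc4 : c ^ 4 = 1 := by rw [← hcc]; ring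
      have hc0 : c ≠ 0 := by
        rintro rfl
        rw [zero_mul] at hcc
        exact zero_ne_one hcc
      have hev' : ∀ v ∈ W, ∀ d : F, f i v = d • v → v = 0 := by
        intro v hv d hd'
        by_contra h
        exact hev i hi v hv h d hd'
      by_cases hr2 : r i = 2
      · exfalso
        have hch : ringChar F ≠ 2 := by
          intro h
          have h1 := FiniteField.even_card_iff_char_two.1 h
          rw [hF] at h1
          omega
        have hsq : IsSquare c := by
          rw [FiniteField.isSquare_iff hch hc0, hF]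
          exact hc4
        obtain ⟨a, ha⟩ := hsq
        obtain ⟨w, hw⟩ : ∃ w : W, w ≠ 0 := by
          have : Nontrivial W := Module.nontrivial_of_finrank_pos (R := F) (by omega)
          exact exists_ne 0
        have h2 : f i (f i w) = (a * a) • (w : Fin n → F) := by
          rw [← ha]
          have h3 := hc' w
          rw [hr2] at h3
          exact h3
        have h3 : f i (f i w + a • (w : Fin n → F)) = a • (f i w + a • (w : Fin n → F)) := by
          rw [hadd, hlin, h2, smul_add, smul_smul, add_comm]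
        have h4 := hev' _ (W.add_mem ((hst i).1 w w.2) (W.smul_mem a w.2)) a h3
        have h5 := hev' w w.2 (-a) (by rw [neg_smul]; exact eq_neg_of_add_eq_zero_left h4)
        exact hw (Subtype.ext h5)
      · have hodd : r i % 2 = 1 := by
          rcases (pf.prime i).eq_two_or_odd with h | h
          · exact absurd h hr2
          · exact h
        set d : F := c ^ (3 * r i) with hd'
        have hd0 : d ≠ 0 := pow_ne_zero _ hc0
        have hit : ∀ (k : ℕ) (v : Fin n → F), (fun v => d • f i v)^[k] v = d ^ k • (f i)^[k] v := by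
          intro k
          induction k with
          | zero => intro v; rw [Function.iterate_zero, pow_zero, one_smul]; rfl
          | succ k ih =>
            intro v
            rw [Function.iterate_succ_apply', ih, Function.iterate_succ_apply', hlin, smul_smul, pow_succ']
        have hdr : d ^ r i * c = 1 := by
          rw [hd', ← pow_mul, ← pow_succ]
          obtain ⟨m, hm⟩ : ∃ m, r i = 2 * m + 1 := ⟨r i / 2, by omega⟩
          have h6 : 3 * r i * r i + 1 = 4 * (3 * m * m + 3 * m + 1) := by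
            rw [hm]; ring
          rw [h6, pow_mul, hc4, one_pow]
        let g : W → W := fun v => ⟨d • f i v, W.smul_mem _ ((hst i).1 v v.2)⟩
        have hg : ∀ (k : ℕ) (v : W), ((g^[k] v : W) : Fin n → F) = (fun v => d • f i v)^[k] v := by
          intro k
          induction k with
          | zero => intro v; rfl
          | succ k ih => intro v; rw [Function.iterate_succ_apply', Function.iterate_succ_apply', ← ih]
        have h7 : r i ∣ Nat.card W - 1 := by
          refine prime_dvd_of_no_fixed (g := g) (k := 1) ?_ (pf.prime i) ?_ ?_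
          · apply Subtype.ext
            change d • f i ((0 : W) : Fin n → F) = 0
            rw [Submodule.coe_zero, h0, smul_zero]
          · intro v
            apply Subtype.ext
            rw [pow_one, hg, hit, hc', smul_smul, hdr, one_smul]
          · intro v hv
            have h8 : d • f i v = (v : Fin n → F) := congrArg Subtype.val hv
            apply Subtype.ext
            refine hev' v v.2 d⁻¹ ?_
            calc f i v = d⁻¹ • (d • f i v) := by rw [smul_smul, inv_mul_cancel₀ hd0, one_smul]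
              _ = d⁻¹ • (v : Fin n → F) := by rw [h8]
        have h8 : Nat.card W = 81 := by
          rw [Module.natCard_eq_pow_finrank (K := F), hfr, Nat.card_eq_fintype_card, hF]
          norm_num
        rw [h8] at h7
        have h9 : r i ∣ 2 ^ 4 * 5 := h7
        rcases (Nat.Prime.dvd_mul (pf.prime i)).1 h9 with h10 | h10
        · exact absurd ((Nat.prime_dvd_prime_iff_eq (pf.prime i) Nat.prime_two).1
            ((pf.prime i).dvd_of_dvd_pow h10)) hr2
        · exact (Nat.prime_dvd_prime_iff_eq (pf.prime i) (by norm_num)).1 h10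
    exact hd U x f r hfam hcov ⟨W, W', hW, hW', hc, hst, Or.inr fun i j hi hj =>
      pf.inj ((h5 i hi).trans (h5 j hj).symm)⟩

end four

section one

variable {G Ω : Type} [Group G] [MulAction G Ω] {N : Subgroup G} {F : Type} [Field F] [Fintype F] {n q : ℕ}
  {U : UEnv G Ω N F n q}

/-- a linear lift is an isometry -/
theorem herm_of_lin {x : G} {f : (Fin n → F) → (Fin n → F)} (h : U.Lft x f) (hl : Lin f) (v w : Fin n → F) :
    hermForm n F q (f v) (f w) = hermForm n F q v w := by
  obtain ⟨ρ, h1, h2⟩ := h.ind.exists_rho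
  have hn := U.hn
  have h3 : ∀ c : F, ρ c = c := by
    intro c
    have h4 : f (Pi.single ⟨0, by omega⟩ 1) ≠ 0 := by
      intro h5
      have h6 : (Pi.single (⟨0, by omega⟩ : Fin n) 1 : Fin n → F) = 0 := h.ind.injective (h5.trans h.ind.map_zero.symm)
      have h7 := congrFun h6 ⟨0, by omega⟩
      rw [Pi.single_eq_same] at h7
      exact one_ne_zero h7
    have h5 := (h1 c (Pi.single ⟨0, by omega⟩ 1)).symm.trans (hl c (Pi.single ⟨0, by omega⟩ 1))
    by_contra hne
    have h6 : (ρ c - c) • f (Pi.single ⟨0, by omega⟩ 1) = 0 := by rw [sub_smul, h5, sub_self]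
    rcases smul_eq_zero.1 h6 with h7 | h7
    · exact hne (sub_eq_zero.1 h7)
    · exact h4 h7
  rw [h2, h3]

end one

/-- **E9** : case I -/
theorem case_one (hstr : StrStmt) (hdec : DecStmt) (hd : DStmt) (hl : LStmt) (hirr : IrrStmt) (hgdec : GDecStmt)
    (hsmall : SmallStmt) : CaseOne := by
  intro G Ω _ _ _ _ _ N F _ _ n q U ι _ x f r hfam hcov ⟨h42, hlin, hcop, hIH⟩
  obtain ⟨sa, -, -, sc, -, se, -⟩ := hsmall U.hF U.hn U.h32 hIH
  have hadd := fun i => (hfam.lft i).ind.map_add
  have hiso := fun i => herm_of_lin (hfam.lft i) (hlin i)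
  have hord : ∀ i, ∃ m : ℕ, m.Coprime q ∧ ∀ v, (f i)^[m] v = v := fun i => by
    obtain ⟨k, hk⟩ := hfam.ord i
    exact ⟨r i ^ k, (hcop i).pow_left k, hk⟩
  have pf := hfam.pf
  rcases hstr U.hF U.hn f hlin hadd hiso hfam.comm hord with h | h | h | h | h | h | h
  · obtain ⟨e, he0, he, hfe⟩ := h
    exact U.point pf.prime hcop pf.pow pf.ne pf.comm hfam.lft hcov he0 he hfe
  · obtain ⟨A, hA, hA1, hA3, hA32, hst⟩ := h
    have hlt : Module.finrank F A < n := by
      have h1 := Submodule.finrank_lt hA1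
      rwa [Module.finrank_fin_fun] at h1
    exact hdec U x f r hfam hcov ⟨A, hA, hA1, hA3, hA32, hst, fun i _ => hcop i, sa _ hA3 hlt hA32⟩
  · obtain ⟨W, W', hW, hW', hc, hst⟩ := h
    exact case_halves hd U hfam hcov h42 hlin hcop sc hW hW' hc hst
  · obtain ⟨K, _, _, _, _, _, h1, h2, h3, h4⟩ := h
    exact hl U x f r hfam hcov ⟨K, inferInstance, inferInstance, inferInstance, inferInstance, inferInstance,
      h1, h2, h3, h4, hIH⟩
  · obtain ⟨hodd, h1⟩ := h
    refine hirr U x f r hfam hcov ⟨hodd, hlin, hcop, fun i => ?_⟩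
    rcases h1 i with h2 | h2
    · exfalso
      obtain ⟨c, hc⟩ := h2
      exact pf.ne i ((hfam.lft i).eq_one_iff.2 ⟨c, fun v => hc v Submodule.mem_top⟩)
    · exact h2
  · obtain ⟨hn3, w, hw, hfw⟩ := h
    subst hn3
    exact case_frame hgdec U hfam hcov hlin hcop hiso se hw hfw
  · obtain ⟨-, h1⟩ := h
    have h2 : ∀ i, r i = 3 := by
      intro i
      have h3 : U.Lft (x i ^ 9) (fun v => v) := by
        have h4 := (hfam.lft i).pow 9
        have h5 : (f i)^[9] = fun v => v := funext fun v => h1 i v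
        rwa [h5] at h4
      have h4 : x i ^ 9 = 1 := h3.inj U.lft_one
      have h5 : orderOf (x i) = r i := by
        have := Fact.mk (pf.prime i)
        exact orderOf_eq_prime (pf.pow i) (pf.ne i)
      have h6 : r i ∣ 9 := h5 ▸ orderOf_dvd_of_pow_eq_one h4
      have h7 : r i ∣ 3 := by
        have h8 : r i ∣ 3 ^ 2 := h6
        exact (pf.prime i).dvd_of_dvd_pow h8
      exact (Nat.prime_dvd_prime_iff_eq (pf.prime i) Nat.prime_three).1 h7
    obtain ⟨ω⟩ := (inferInstance : Nonempty Ω)
    obtain ⟨i, -⟩ := hcov ω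
    obtain ⟨j, hj⟩ := H106.RC.Cov.two U.env hcov pf.ne i
    exact hj (pf.inj ((h2 j).trans (h2 i).symm))

end Cfsg.Agent.H906.RC
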